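import Groth.Agent.AlgzGr.Stalk
import Groth.Agent.FormGr.SysMul
import Groth.Agent.KFlat.PullTensor

/-!
Graded pieces which are finite sums of copies of the bottom term, detected on stalks.
-/

set_option autoImplicit false
set_option maxHeartbeats 1000000
set_option linter.style.haveILetI false
set_option backward.isDefEq.respectTransparency false
set_option backward.isDefEq.respectTransparency.types false
universe u

open CategoryTheory CategoryTheory.Limits AlgebraicGeometry TopologicalSpace Opposite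
open Groth.Agent.W7Exist (tn trG)
open Groth.Agent.FormGr (Kt kap mulG tr_mulG kap_ι Generates)
open Groth.Agent.CohFinite

noncomputable section

namespace Groth.Agent.AlgzGr

instance instHasFiniteBiproducts (X : Scheme.{u}) : HasFiniteBiproducts X.Modules :=
  HasFiniteBiproducts.of_hasFiniteProducts

variable {A : Type u} [CommRing A] {X : Scheme.{u}} [X.Over (Spec (CommRingCat.of A))]
  {I : Ideal A} {G : ℕᵒᵖ ⥤ X.Modules} (hG : Formal.IsCohFormal I G)

/-- The monomials, as maps from the bottom into the graded piece. -/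
abbrev kapList (t : ℕ) (l : List A) (hl : ∀ a ∈ l, a ∈ I ^ (t + 1)) (i : Fin l.length) :
    G.obj (op 0) ⟶ Kt G t :=
  kap hG t ⟨l[i], hl _ (List.getElem_mem i.2)⟩

include hG in
lemma sm_kap (t : ℕ) (b : ↥(I ^ (t + 1))) (y : X) (z : stL G y) :
    Algz.stalkMapₗ (kernel.ι (tn G t)) y (Algz.stalkMapₗ (kap hG t b) y (stπ G y 0 z)) =
      Algz.toStalk A X y (b : A) • stπ G y (t + 1) z := by
  have htr : ∀ n, Algz.stalkMapₗ (trG G (Nat.zero_le n)) y (stπ G y n z) = stπ G y 0 z := by
    intro n
    induction n with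
    | zero => exact (congrArg (fun φ => Algz.stalkMapₗ φ y (stπ G y 0 z)) (W7Exist.trG_self G 0)).trans (sm_id y _)
    | succ n ih =>
      refine Eq.trans ?_ ih
      rw [← W7Exist.trG_comp G (Nat.le_succ n) (Nat.zero_le n), sm_comp]
      exact congrArg _ (z.2 n)
  rw [← htr (t + 1), ← sm_comp, kap_ι, ← sm_comp, tr_mulG, sm_smulMod]

theorem isIso_desc [IsLocallyNoetherian X] (t : ℕ) (l : List A) (hl : ∀ a ∈ l, a ∈ I ^ (t + 1))
    (hspan : ∀ y : X, Algz.stalkIdeal I y ≠ ⊤ →
      Ideal.ofList (l.map (Algz.toStalk A X y)) = Algz.stalkIdeal I y ^ (t + 1))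
    (hindep : ∀ y : X, Algz.stalkIdeal I y ≠ ⊤ →
      Indep (l.map (Algz.toStalk A X y)) (Algz.stalkIdeal I y) (t + 1) (stL G y)) :
    IsIso (biproduct.desc (kapList hG t l hl)) := by
  refine KFlat.isIso_of_stalks _ fun y => (ConcreteCategory.isIso_iff_bijective _).2 ?_
  show Function.Bijective (Algz.stalkMapₗ (biproduct.desc (kapList hG t l hl)) y)
  set Φ := biproduct.desc (kapList hG t l hl) with hΦ
  have hzero : ∀ n, Algz.stalkIdeal I y = ⊤ → ∀ v : (G.obj (op n)).presheaf.stalk y, v = 0 := fun n h v => by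
    have h0 := stalk_killed hG n y
    rw [h, Ideal.top_pow, Submodule.top_smul] at h0
    exact (Submodule.eq_bot_iff _).1 h0 v trivial
  have hΦv : ∀ v, Algz.stalkMapₗ Φ y v = ∑ i, Algz.stalkMapₗ (kapList hG t l hl i) y
      (Algz.stalkMapₗ (biproduct.π (fun _ : Fin l.length => G.obj (op 0)) i) y v) := by
    intro v
    have he : Φ = ∑ i, biproduct.π (fun _ : Fin l.length => G.obj (op 0)) i ≫ kapList hG t l hl i :=
      biproduct.desc_eq
    conv_lhs => rw [he]
    rw [sm_sum]
    exact Finset.sum_congr rfl fun i _ => sm_comp _ _ y v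
  let e : Fin (l.map (Algz.toStalk A X y)).length → Fin l.length := Fin.cast (List.length_map _)
  have hcomb : ∀ (z : Fin l.length → stL G y),
      stπ G y (t + 1) (comb (l.map (Algz.toStalk A X y)) fun i => z (e i)) =
        ∑ i, Algz.stalkMapₗ (kernel.ι (tn G t)) y
          (Algz.stalkMapₗ (kapList hG t l hl i) y (stπ G y 0 (z i))) := by
    intro z
    rw [comb, map_sum]
    refine Fintype.sum_equiv (finCongr (List.length_map _)) _ _ fun i => ?_
    rw [sm_kap, map_smul]
    simp [e]
  refine ⟨(injective_iff_map_eq_zero _).2 fun v hv => ?_, fun w => ?_⟩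
  · have hcomp : ∀ i, Algz.stalkMapₗ (biproduct.π (fun _ : Fin l.length => G.obj (op 0)) i) y v = 0 := by
      intro i
      by_cases htop : Algz.stalkIdeal I y = ⊤
      · exact hzero 0 htop _
      choose z hz using fun i => stπ_surjective hG y 0
        (Algz.stalkMapₗ (biproduct.π (fun _ : Fin l.length => G.obj (op 0)) i) y v)
      have h1 : comb (l.map (Algz.toStalk A X y)) (fun i => z (e i)) ∈
          Algz.stalkIdeal I y ^ (t + 1 + 1) • (⊤ : Submodule (X.presheaf.stalk y) (stL G y)) := by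
        rw [← stπ_ker hG y (t + 1), LinearMap.mem_ker, hcomb, ← map_sum]
        simp only [hz]
        rw [← hΦv, hv, map_zero]
      have h2 := hindep y htop _ h1 (Fin.cast (List.length_map _).symm i)
      rw [← pow_one (Algz.stalkIdeal I y), ← stπ_ker hG y 0, LinearMap.mem_ker] at h2
      rw [← hz i]
      simpa [e] using h2
    rw [← sm_id y v, ← biproduct.total, sm_sum]
    exact Finset.sum_eq_zero fun i _ => by rw [sm_comp, hcomp, map_zero]
  · have hw : Algz.stalkMapₗ (kernel.ι (tn G t)) y w ∈ LinearMap.ker (Algz.stalkMapₗ (tn G t) y) := by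
      rw [LinearMap.mem_ker, ← sm_comp, kernel.condition, sm_zero]
    by_cases htop : Algz.stalkIdeal I y = ⊤
    · refine ⟨0, sm_injective (kernel.ι (tn G t)) y ?_⟩
      rw [map_zero, map_zero, hzero (t + 1) htop (Algz.stalkMapₗ _ y w)]
    rw [stalk_ker hG, ← hspan y htop] at hw
    obtain ⟨m, hm⟩ := exists_comb _ hw
    choose z hz using fun i => stπ_surjective hG y (t + 1) (m i)
    let z' : Fin l.length → stL G y := fun i => z (Fin.cast (List.length_map _).symm i)
    refine ⟨∑ i, Algz.stalkMapₗ (biproduct.ι (fun _ : Fin l.length => G.obj (op 0)) i) y (stπ G y 0 (z' i)), ?_⟩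
    refine sm_injective (kernel.ι (tn G t)) y ?_
    have h3 : ∀ i, Algz.stalkMapₗ Φ y (Algz.stalkMapₗ (biproduct.ι (fun _ : Fin l.length => G.obj (op 0)) i) y
        (stπ G y 0 (z' i))) = Algz.stalkMapₗ (kapList hG t l hl i) y (stπ G y 0 (z' i)) := fun i => by
      rw [← sm_comp, hΦ, biproduct.ι_desc]
    rw [map_sum, map_sum, Finset.sum_congr rfl fun i _ => congrArg (Algz.stalkMapₗ (kernel.ι (tn G t)) y) (h3 i),
      ← hcomb, ← hm, comb, comb, map_sum]
    refine Finset.sum_congr rfl fun i _ => ?_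
    rw [map_smul]
    simp [z', e, hz]

include hG in
/-- The bottom generates the graded pieces in cohomology. -/
theorem generates [IsLocallyNoetherian X] (l : ℕ → List A) (hl : ∀ t, ∀ a ∈ l t, a ∈ I ^ (t + 1))
    (hspan : ∀ (t : ℕ) (y : X), Algz.stalkIdeal I y ≠ ⊤ →
      Ideal.ofList ((l t).map (Algz.toStalk A X y)) = Algz.stalkIdeal I y ^ (t + 1))
    (hindep : ∀ (t : ℕ) (y : X), Algz.stalkIdeal I y ≠ ⊤ →
      Indep ((l t).map (Algz.toStalk A X y)) (Algz.stalkIdeal I y) (t + 1) (stL G y)) (q : ℕ) :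
    Generates hG q := by
  intro t
  haveI := isIso_desc hG t (l t) (hl t) (hspan t) (hindep t)
  set Φ := biproduct.desc (kapList hG t (l t) (hl t)) with hΦ
  refine top_le_iff.1 fun z _ => ?_
  obtain ⟨v, rfl⟩ : ∃ v, hhMap A Φ q v = z := ⟨hhMap A (inv Φ) q z, by
    rw [← hhMap_comp, IsIso.inv_hom_id]
    exact hhMap_id A _ q z⟩
  have he : Φ = ∑ i, biproduct.π (fun _ : Fin (l t).length => G.obj (op 0)) i ≫ kapList hG t (l t) (hl t) i :=
    biproduct.desc_eq
  have hsum : ∀ (s : Finset (Fin (l t).length)) (ψ : Fin (l t).length →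
      ((⨁ fun _ : Fin (l t).length => G.obj (op 0)) ⟶ Kt G t)),
      hhMap A (∑ i ∈ s, ψ i) q v = ∑ i ∈ s, hhMap A (ψ i) q v := by
    intro s ψ
    classical
    induction s using Finset.induction with
    | empty => rw [Finset.sum_empty, Finset.sum_empty]; exact FormAlg.hhMap_zero q v
    | insert a r ha ih => rw [Finset.sum_insert ha, Finset.sum_insert ha, FormGr.hhMap_add', ih]
  rw [he, hsum]
  refine Submodule.sum_mem _ fun i _ => ?_
  rw [hhMap_comp]
  exact Submodule.subset_span ⟨_, _, rfl⟩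

end Groth.Agent.AlgzGr
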