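import Groth.Agent.FormGr.GrTower

/-!
The limit topology of a tower with finitely generated graded pieces is adic, completeness of the
base not being needed.
-/

set_option autoImplicit false
set_option linter.style.haveILetI false
set_option maxHeartbeats 800000
universe u

namespace Groth.Agent.AlgzGr

open CategoryTheory Groth.Agent.FormGr

variable {A : Type u} [CommRing A] {J : Ideal A} [IsNoetherianRing A] (S : GrSec J)

theorem finite_P [Module.Finite A (S.P 0)] : ∀ n, Module.Finite A (S.P n)
  | 0 => inferInstance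
  | n + 1 => by
    haveI := finite_P n
    haveI := S.W.finite_O n
    haveI : IsNoetherian A (S.P n) := isNoetherian_of_isNoetherianRing_of_finite A _
    refine Module.Finite.of_fg_top (Submodule.fg_of_fg_map_of_fg_inf_ker (S.p (Nat.le_succ n))
      (IsNoetherian.noetherian _) ?_)
    rw [top_inf_eq]
    haveI : IsNoetherian A (LinearMap.range (S.ι n)) := isNoetherian_of_fg_of_noetherian _
      (LinearMap.range_eq_map (S.ι n) ▸ (Module.Finite.fg_top.map _))
    have hle : LinearMap.ker (S.p (Nat.le_succ n)) ≤ LinearMap.range (S.ι n) := fun x hx => S.exists_ι n x hx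
    have h := (IsNoetherian.noetherian ((LinearMap.ker (S.p (Nat.le_succ n))).comap
      (LinearMap.range (S.ι n)).subtype)).map (LinearMap.range (S.ι n)).subtype
    rwa [Submodule.map_comap_subtype, inf_eq_right.2 hle] at h

theorem exists_ker_le (k : ℕ) : ∃ N, S.K N ≤ J ^ k • (⊤ : Submodule A S.L) := by
  classical
  obtain ⟨c, hc⟩ := S.exists_gen
  refine ⟨c + k, ?_⟩
  have hstep : ∀ t, c + k ≤ t → S.K t ≤ J ^ k • S.K (t - k) ⊔ S.K (t + 1) := fun t ht => by
    refine (hc t).trans (sup_le (iSup_le fun l => iSup_le fun hl => iSup_le fun hlt => ?_) le_sup_right)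
    refine le_sup_of_le_left ?_
    rw [show t - l = k + (t - l - k) by omega, pow_add, ← smul_eq_mul, Submodule.smul_assoc]
    refine Submodule.smul_mono le_rfl (Submodule.smul_le.2 fun a ha y hy => ?_)
    refine S.smul_mem_K (show l ≤ t - k by omega) ?_ hy
    rwa [show t - k - l = t - l - k by omega]
  obtain ⟨r, b, hb⟩ := Module.Finite.exists_fin (R := A) (M := ↥(J ^ k))
  let bb : Fin r → A := fun i => (b i : A)
  have hdec : ∀ (T : Submodule A S.L) (y : S.L), y ∈ J ^ k • T → ∃ z : Fin r → T, ∑ i, bb i • (z i : S.L) = y := by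
    intro T y hy
    refine Submodule.smul_induction_on (p := fun y => ∃ z : Fin r → T, ∑ i, bb i • (z i : S.L) = y) hy
      (fun a ha w hw => ?_) (fun p q hp hq => ?_)
    · obtain ⟨e, he⟩ := (Submodule.mem_span_range_iff_exists_fun A).1
        (show (⟨a, ha⟩ : ↥(J ^ k)) ∈ Submodule.span A (Set.range b) by rw [hb]; trivial)
      refine ⟨fun i => e i • ⟨w, hw⟩, ?_⟩
      have ha' : ∑ i, e i * bb i = a := by
        have := congrArg Subtype.val he
        simpa [bb, smul_eq_mul] using this
      rw [← ha', Finset.sum_smul]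
      refine Finset.sum_congr rfl fun i _ => ?_
      simp [smul_smul, mul_comm]
    · obtain ⟨z, rfl⟩ := hp
      obtain ⟨z', rfl⟩ := hq
      exact ⟨z + z', by simp [Finset.sum_add_distrib, smul_add]⟩
  intro y hy
  have hs : ∀ (s : ℕ) (v : S.K (c + k + s)), ∃ z : Fin r → S.K (c + k + s - k),
      (v : S.L) - ∑ i, bb i • (z i : S.L) ∈ S.K (c + k + (s + 1)) := fun s v => by
    obtain ⟨w, hw, v', hv', e⟩ := Submodule.mem_sup.1 (hstep (c + k + s) (Nat.le_add_right _ _) v.2)
    obtain ⟨z, rfl⟩ := hdec _ w hw
    exact ⟨z, by rw [← e, add_sub_cancel_left]; exact hv'⟩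
  choose z hz using hs
  let v : ∀ s, S.K (c + k + s) := fun s =>
    Nat.rec (motive := fun s => S.K (c + k + s)) ⟨y, hy⟩ (fun s w => ⟨_, hz s w⟩) s
  let W : ℕ → Fin r → S.L := fun n i => ∑ s ∈ Finset.range n, (z s (v s) i : S.L)
  have hv : ∀ n, y - ∑ i, bb i • W n i = (v n : S.L) := by
    intro n
    induction n with
    | zero => simp [W, v]
    | succ n ih =>
      have : ∑ i, bb i • W (n + 1) i = ∑ i, bb i • W n i + ∑ i, bb i • (z n (v n) i : S.L) := by
        simp [W, Finset.sum_range_succ, smul_add, Finset.sum_add_distrib]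
      rw [this, ← sub_sub, ih]
  have hstab : ∀ n m i, n ≤ m → S.π n (W m i) = S.π n (W n i) := by
    intro n m i h
    induction m, h using Nat.le_induction with
    | base => rfl
    | succ m hm ih =>
      simp only [W, Finset.sum_range_succ, map_add] at ih ⊢
      rw [show S.π n (z m (v m) i : S.L) = 0 from S.K_antitone (by omega) (z m (v m) i).2, add_zero, ih]
  let w : Fin r → S.L := fun i => ⟨fun n => S.π n (W n i), fun n => by
    rw [S.π_succ, hstab n (n + 1) i (Nat.le_succ n)]⟩
  have hy' : y = ∑ i, bb i • w i := by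
    refine Subtype.ext (funext fun n => ?_)
    show S.π n y = S.π n (∑ i, bb i • w i)
    have h1 : S.π n (y - ∑ i, bb i • W n i) = 0 := by
      rw [hv]; exact S.K_antitone (by omega) (v n).2
    rw [map_sub, sub_eq_zero] at h1
    rw [h1, map_sum, map_sum]
    refine Finset.sum_congr rfl fun i _ => ?_
    rw [map_smul, map_smul]
    rfl
  rw [hy']
  exact Submodule.sum_mem _ fun i _ => Submodule.smul_mem_smul (b i).2 trivial

end Groth.Agent.AlgzGr
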