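import Groth.Agent.AlgzGr.Criterion
import Groth.Agent.AlgzGr.Topology
import Groth.Agent.AlgzSys.Build

/-!
Canonical extension from finitely generated graded pieces, over a base that need not be complete.
-/

set_option autoImplicit false
set_option maxHeartbeats 1000000
set_option linter.style.haveILetI false
set_option backward.isDefEq.respectTransparency false
set_option backward.isDefEq.respectTransparency.types false
universe u

open CategoryTheory CategoryTheory.Limits AlgebraicGeometry TopologicalSpace Opposite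
open Groth.Agent.FormGr (grSec Generates)
open Groth.Agent.CohFinite

noncomputable section

namespace Groth.Agent.AlgzGr

variable {A : Type u} [CommRing A] [IsNoetherianRing A] {I : Ideal A} {U : (Spec (CommRingCat.of A)).Opens}
  {G : ℕᵒᵖ ⥤ (U : Scheme.{u}).Modules}

theorem canonicallyExtends (hG : Formal.IsCohFormal I G)
    (h0 : Module.Finite A (Coh.HH (↑U : Scheme.{u}) (G.obj (op 0)) 0))
    (h1 : Module.Finite A (Coh.HH (↑U : Scheme.{u}) (G.obj (op 0)) 1))
    (g0 : Generates hG 0) (g1 : Generates hG 1) :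
    Algz.CanonicallyExtends A I U G := by
  classical
  let S := grSec hG h0 h1 g0 g1
  haveI : Module.Finite A (S.P 0) := h0
  haveI := fun n => finite_P S n
  let T := Algz.sectMod A U G
  let ε : ∀ n, (T.obj (op n) : Type u) ≃ₗ[A] S.P n := fun n => W7Cech.gsH0L A (G.obj (op n))
  have hε : ∀ {a b : ℕ} (h : a ≤ b) (x : T.obj (op b)), ε a ((ARSys.tr T h).hom x) = S.p h (ε b x) :=
    fun {a b} h x => W7Cech.gsH0_natural A (G.map (homOfLE h).op) x
  have hπ : ∀ {a b : ℕ} (h : a ≤ b) (x : (limit T : ModuleCat.{u} A)),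
      (ARSys.tr T h).hom ((limit.π T (op b)).hom x) = (limit.π T (op a)).hom x :=
    fun h x => AlgzSys.π_tr T h x
  let Ψ : (limit T : ModuleCat.{u} A) →ₗ[A] S.L :=
    LinearMap.codRestrict S.limSub (LinearMap.pi fun n => (ε n).toLinearMap ∘ₗ (limit.π T (op n)).hom)
      fun x n => (hε (Nat.le_succ n) _).symm.trans (congrArg (ε n) (hπ (Nat.le_succ n) x))
  have hΨ : ∀ n x, S.π n (Ψ x) = ε n ((limit.π T (op n)).hom x) := fun n x => rfl
  have hbij : Function.Bijective Ψ := by
    refine ⟨fun x y hxy => ?_, fun y => ?_⟩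
    · refine Concrete.limit_ext T x y fun j => ?_
      obtain ⟨n⟩ := j
      exact (ε n).injective ((hΨ n x).symm.trans ((congrArg (S.π n) hxy).trans (hΨ n y)))
    · obtain ⟨x, hx, -⟩ := AlgzSys.existsUnique_limit T (fun n => (ε n).symm (S.π n y)) fun n k hnk =>
        (ε n).injective (by rw [hε, LinearEquiv.apply_symm_apply, LinearEquiv.apply_symm_apply, S.p_π])
      exact ⟨x, Subtype.ext (funext fun n => (hΨ n x).trans (by rw [hx, LinearEquiv.apply_symm_apply]; rfl))⟩
  refine AlgzSys.canonicallyExtends_of_isML U hG ?_ ?_ ?_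
  · obtain ⟨c, hc⟩ := S.exists_lift
    intro n
    refine ⟨c, fun s hs => ?_⟩
    let f : T.obj (op (n + s)) ⟶ T.obj (op n) := ARSys.tr T (Nat.le_add_right n s)
    let g : T.obj (op (n + c)) ⟶ T.obj (op n) := ARSys.tr T (Nat.le_add_right n c)
    show imageSubobject f = imageSubobject g
    apply (ModuleCat.subobjectModule _).injective
    show LinearMap.range _ = LinearMap.range _
    have key : ∀ {X Y : ModuleCat.{u} A} (φ : X ⟶ Y),
        LinearMap.range (imageSubobject φ).arrow.hom = LinearMap.range φ.hom := fun φ => by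
      refine le_antisymm ?_ ?_
      · rintro _ ⟨z, rfl⟩
        obtain ⟨w, rfl⟩ := (ModuleCat.epi_iff_surjective (factorThruImageSubobject φ)).1 inferInstance z
        exact ⟨w, (congr(($(imageSubobject_arrow_comp φ)).hom w)).symm⟩
      · rintro _ ⟨w, rfl⟩
        exact ⟨(factorThruImageSubobject φ).hom w, congr(($(imageSubobject_arrow_comp φ)).hom w)⟩
    rw [key, key]
    refine le_antisymm ?_ ?_
    · rintro _ ⟨w, rfl⟩
      exact ⟨(ARSys.tr T (show n + c ≤ n + s by omega)).hom w, AlgzSys.tr_apply T _ _ w⟩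
    · rintro _ ⟨w, rfl⟩
      obtain ⟨y, hy⟩ := hc n (S.p (show c + n ≤ n + c by omega) (ε _ w))
      refine ⟨(ε _).symm (S.π (n + s) y), (ε n).injective ?_⟩
      show ε n ((ARSys.tr T (Nat.le_add_right n s)).hom ((ε _).symm (S.π (n + s) y))) =
        ε n ((ARSys.tr T (Nat.le_add_right n c)).hom w)
      rw [hε, hε, LinearEquiv.apply_symm_apply, S.p_π, hy, S.p_comp]
  · intro k
    obtain ⟨N, hN⟩ := exists_ker_le S k
    refine ⟨N, fun x hx => ?_⟩
    have hx' : Ψ x ∈ S.K N := by
      show S.π N (Ψ x) = 0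
      rw [hΨ, LinearMap.mem_ker.1 hx, map_zero]
    have h3 : Ψ x ∈ (I ^ k • (⊤ : Submodule A ↑(limit T))).map Ψ := by
      rw [Submodule.map_smul'', Submodule.map_top, LinearMap.range_eq_top.2 hbij.2]
      exact hN hx'
    obtain ⟨x', hx'', he⟩ := h3
    rwa [← hbij.1 he]
  · intro n
    haveI : Module.Finite A (T.obj (op n)) := Module.Finite.equiv (ε n).symm
    haveI : IsNoetherian A (T.obj (op n)) := isNoetherian_of_isNoetherianRing_of_finite A _
    exact Module.Finite.iff_fg.2 (IsNoetherian.noetherian _)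

end Groth.Agent.AlgzGr
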