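import Groth.Agent.AlgzGr.Regular
import Mathlib.RingTheory.Flat.EquationalCriterion
import Mathlib.RingTheory.Nakayama

/-!
Independence of minimal generators of powers of the maximal ideal on a flat module.
-/

set_option autoImplicit false
set_option maxHeartbeats 1000000
set_option linter.style.haveILetI false
universe u

open IsLocalRing

noncomputable section

namespace Groth.Agent.AlgzGr

variable {R : Type u} [CommRing R] [IsNoetherianRing R] [IsLocalRing R]

/-- Generators of `m^n` independent modulo `m^(n+1)`. -/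
theorem exists_min_gens (n : ℕ) : ∃ b : List R, Ideal.ofList b = maximalIdeal R ^ n ∧
    ∀ a : Fin b.length → R, ∑ i, a i * b[i] ∈ maximalIdeal R ^ (n + 1) → ∀ i, a i ∈ maximalIdeal R := by
  classical
  have hex : ∃ N : ℕ, ∃ s : Finset R, s.card = N ∧ Ideal.span (s : Set R) = maximalIdeal R ^ n := by
    obtain ⟨s, hs⟩ := IsNoetherian.noetherian (maximalIdeal R ^ n)
    exact ⟨_, s, rfl, hs⟩
  obtain ⟨s, hs, hspan⟩ := Nat.find_spec hex
  refine ⟨s.toList, ?_, fun a ha i => ?_⟩
  · rw [← hspan, Ideal.ofList]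
    congr 1
    ext x
    simp
  by_contra hi
  have hu : IsUnit (a i) := by
    simpa [mem_maximalIdeal, mem_nonunits_iff] using hi
  set x := s.toList[i] with hx
  have hxs : x ∈ s := Finset.mem_toList.1 (List.getElem_mem i.2)
  have hsub : Ideal.span ((s.erase x : Finset R) : Set R) ≤ maximalIdeal R ^ n :=
    (Ideal.span_mono (Finset.coe_subset.2 (Finset.erase_subset x s))).trans hspan.le
  have hmem : x ∈ Ideal.span ((s.erase x : Finset R) : Set R) ⊔ maximalIdeal R • maximalIdeal R ^ n := by
    obtain ⟨c, hc⟩ := hu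
    have h1 : a i * x = (∑ j, a j * s.toList[j]) - ∑ j ∈ Finset.univ.erase i, a j * s.toList[j] := by
      rw [← Finset.add_sum_erase _ _ (Finset.mem_univ i), add_sub_cancel_right]
    have h2 : a i * x ∈ Ideal.span ((s.erase x : Finset R) : Set R) ⊔ maximalIdeal R • maximalIdeal R ^ n := by
      rw [h1]
      refine sub_mem (Submodule.mem_sup_right ?_) (Submodule.mem_sup_left (Ideal.sum_mem _ fun j hj => ?_))
      · rw [smul_eq_mul, ← pow_succ']
        exact ha
      · refine Ideal.mul_mem_left _ _ (Ideal.subset_span (Finset.mem_coe.2 (Finset.mem_erase.2 ⟨?_, ?_⟩)))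
        · intro he
          exact (Finset.mem_erase.1 hj).1 (Fin.ext ((List.Nodup.getElem_inj_iff s.nodup_toList).1 he))
        · exact Finset.mem_toList.1 (List.getElem_mem j.2)
    have h3 := Ideal.mul_mem_left _ (↑c⁻¹ : R) h2
    rwa [← hc, ← mul_assoc, Units.inv_mul, one_mul] at h3
  have hle : maximalIdeal R ^ n ≤ Ideal.span ((s.erase x : Finset R) : Set R) := by
    refine Submodule.le_of_le_smul_of_le_jacobson_bot (I := maximalIdeal R) (IsNoetherian.noetherian _)
      (maximalIdeal_le_jacobson _) ?_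
    conv_lhs => rw [← hspan]
    refine Ideal.span_le.2 fun y hy => ?_
    by_cases hyx : y = x
    · rw [hyx]
      exact hmem
    · exact Submodule.mem_sup_left (Ideal.subset_span (Finset.mem_coe.2 (Finset.mem_erase.2 ⟨hyx, hy⟩)))
  have := Nat.find_min' hex ⟨s.erase x, rfl, le_antisymm hsub hle⟩
  have hlt := Finset.card_erase_lt_of_mem hxs
  omega

/-- Those generators stay independent on a flat module, through any ring map. -/
theorem indep_of_flat {S : Type u} [CommRing S] (ψ : R →+* S) (M : Type u) [AddCommGroup M] [Module S M]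
    (hflat : letI := Module.compHom M ψ; Module.Flat R M) (n : ℕ) (b : List R)
    (hb : ∀ a : Fin b.length → R, ∑ i, a i * b[i] ∈ maximalIdeal R ^ (n + 1) → ∀ i, a i ∈ maximalIdeal R) :
    Indep (b.map ψ) ((maximalIdeal R).map ψ) n M := by
  classical
  letI := Module.compHom M ψ
  letI : Algebra R S := ψ.toAlgebra
  haveI : IsScalarTower R S M := IsScalarTower.of_algebraMap_smul fun _ _ => rfl
  haveI := hflat
  intro m hm i
  have hsmul : ∀ K : Ideal R, ∀ z : M, z ∈ (K.map ψ • ⊤ : Submodule S M) ↔ z ∈ (K • ⊤ : Submodule R M) := by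
    intro K z
    rw [← Submodule.restrictScalars_top R S M, ← Ideal.smul_restrictScalars]
    rfl
  rw [← Ideal.map_pow, hsmul] at hm
  obtain ⟨r, g, hg⟩ := Submodule.fg_iff_exists_fin_generating_family.1
    (IsNoetherian.noetherian (maximalIdeal R ^ (n + 1)))
  have hmem : ∀ z : M, z ∈ (maximalIdeal R ^ (n + 1) • ⊤ : Submodule R M) → ∃ w : Fin r → M, ∑ k, g k • w k = z := by
    intro z hz
    refine Submodule.smul_induction_on (p := fun z => ∃ w : Fin r → M, ∑ k, g k • w k = z) hz
      (fun a ha v _ => ?_) (fun p q hp hq => ?_)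
    · rw [← hg] at ha
      obtain ⟨e, rfl⟩ := (Submodule.mem_span_range_iff_exists_fun R).1 ha
      exact ⟨fun k => e k • v, by simp [Finset.sum_smul, smul_smul, mul_comm]⟩
    · obtain ⟨w, rfl⟩ := hp
      obtain ⟨w', rfl⟩ := hq
      exact ⟨w + w', by simp [Finset.sum_add_distrib, smul_add]⟩
  obtain ⟨w, hw⟩ := hmem _ hm
  let c : Fin (b.length + r) → R := Fin.append (fun j => b[j]) g
  let x : Fin (b.length + r) → M := Fin.append (fun j => m (Fin.cast (List.length_map _).symm j)) (fun k => -w k)
  have hrel : ∑ j, c j • x j = 0 := by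
    rw [Fin.sum_univ_add]
    simp only [c, x, Fin.append_left, Fin.append_right, smul_neg, Finset.sum_neg_distrib]
    rw [hw, comb, add_neg_eq_zero]
    refine Fintype.sum_equiv (finCongr (List.length_map _).symm) _ _ fun j => ?_
    show b[j] • m _ = _
    simp
    rfl
  obtain ⟨p, a, y, hx, ha⟩ := Module.Flat.iff_forall_isTrivialRelation.1 hflat hrel
  have hmi : m i = ∑ q, a (Fin.castAdd r (Fin.cast (List.length_map _) i)) q • y q := by
    rw [← hx]
    simp [x]
  rw [hmi, hsmul]
  refine Submodule.sum_mem _ fun q _ => Submodule.smul_mem_smul ?_ trivial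
  refine hb (fun j => a (Fin.castAdd r j) q) ?_ _
  have h := ha q
  rw [Fin.sum_univ_add] at h
  simp only [c, Fin.append_left, Fin.append_right] at h
  rw [show ∑ j : Fin b.length, a (Fin.castAdd r j) q * b[j] = ∑ j : Fin b.length, b[j] * a (Fin.castAdd r j) q from
    Finset.sum_congr rfl fun j _ => mul_comm _ _, eq_neg_of_add_eq_zero_left h]
  refine neg_mem (Ideal.sum_mem _ fun k _ => Ideal.mul_mem_right _ _ ?_)
  rw [← hg]
  exact Submodule.subset_span ⟨k, rfl⟩

end Groth.Agent.AlgzGr
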