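import Mathlib.RingTheory.Regular.RegularSequence
import Mathlib.RingTheory.Ideal.Operations

/-!
A regular sequence on a module is quasi-regular on it, phrased with an explicit list of monomials.
-/

set_option autoImplicit false
universe u v

open RingTheory.Sequence

namespace Groth.Agent.AlgzGr

variable {A : Type u} [CommRing A]

/-- The monomials of degree `n` in `f`, as a multiset-like indexed family. -/
def monList : ∀ {d : ℕ}, (Fin d → A) → ℕ → List A
  | _, _, 0 => [1]
  | 0, _, _ + 1 => []
  | d + 1, f, n + 1 => monList (fun i : Fin d => f i.castSucc) (n + 1) ++ (monList f n).map (f (Fin.last d) * ·)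
termination_by d _ n => (d, n)

theorem map_monList {B : Type v} [CommRing B] (φ : A →+* B) :
    ∀ {d : ℕ} (f : Fin d → A) (n : ℕ), (monList f n).map φ = monList (fun i => φ (f i)) n
  | _, f, 0 => by simp [monList]
  | 0, f, n + 1 => by simp [monList]
  | d + 1, f, n + 1 => by
    rw [monList, monList, List.map_append, map_monList φ (fun i => f i.castSucc) (n + 1),
      List.map_map, ← map_monList φ f n, List.map_map]
    congr 2
    funext a
    simp
termination_by d _ n => (d, n)

theorem span_range_succ {d : ℕ} (f : Fin (d + 1) → A) :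
    Ideal.span (Set.range f) = Ideal.span (Set.range fun i : Fin d => f i.castSucc) ⊔ Ideal.span {f (Fin.last d)} := by
  refine le_antisymm (Ideal.span_le.2 ?_) (sup_le (Ideal.span_mono ?_) (Ideal.span_mono ?_))
  · rintro _ ⟨i, rfl⟩
    cases i using Fin.lastCases with
    | last => exact Ideal.mem_sup_right (Ideal.mem_span_singleton_self _)
    | cast i => exact Ideal.mem_sup_left (Ideal.subset_span ⟨i, rfl⟩)
  · rintro _ ⟨i, rfl⟩; exact ⟨i.castSucc, rfl⟩
  · rintro _ rfl; exact ⟨_, rfl⟩

theorem sup_span_singleton_pow_succ (G : Ideal A) (x : A) :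
    ∀ n : ℕ, (G ⊔ Ideal.span {x}) ^ (n + 1) = G ^ (n + 1) ⊔ Ideal.span {x} * (G ⊔ Ideal.span {x}) ^ n
  | 0 => by simp
  | n + 1 => by
    refine le_antisymm ?_ (sup_le (Ideal.pow_right_mono le_sup_left _) ?_)
    · rw [pow_succ', Ideal.sup_mul]
      refine sup_le ?_ le_sup_right
      rw [sup_span_singleton_pow_succ G x n, Ideal.mul_sup, ← pow_succ']
      refine sup_le_sup_left ?_ _
      rw [mul_left_comm, ← sup_span_singleton_pow_succ G x n, pow_succ' (G ⊔ Ideal.span {x}) n]
      exact Ideal.mul_mono le_rfl (Ideal.mul_mono le_sup_left le_rfl)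
    · rw [pow_succ' (G ⊔ Ideal.span {x}) (n + 1)]
      exact Ideal.mul_mono le_sup_right le_rfl

theorem span_monList : ∀ {d : ℕ} (f : Fin d → A) (n : ℕ),
    Ideal.ofList (monList f n) = Ideal.span (Set.range f) ^ n
  | _, f, 0 => by simp [monList, Ideal.ofList, Ideal.one_eq_top]
  | 0, f, n + 1 => by
    rw [monList, Ideal.ofList_nil, Set.range_eq_empty, Ideal.span_empty, pow_succ, Ideal.mul_bot]
  | d + 1, f, n + 1 => by
    have hmap : ∀ (x : A) (l : List A), Ideal.ofList (l.map (x * ·)) = Ideal.span {x} * Ideal.ofList l := by
      intro x l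
      rw [Ideal.ofList, Ideal.ofList, Ideal.span_mul_span', Set.singleton_mul]
      congr 1
      ext y
      simp
    rw [monList, Ideal.ofList_append, hmap, span_monList (fun i => f i.castSucc) (n + 1), span_monList f n,
      span_range_succ f, sup_span_singleton_pow_succ]
termination_by d _ n => (d, n)

variable {M : Type v} [AddCommGroup M] [Module A M]

/-- `Σ b_i m_i` over a list. -/
def comb (l : List A) (m : Fin l.length → M) : M := ∑ i, l[i] • m i

theorem comb_mem (l : List A) (I : Ideal A) (hl : Ideal.ofList l ≤ I) (m : Fin l.length → M) :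
    comb l m ∈ I • (⊤ : Submodule A M) :=
  Submodule.sum_mem _ fun i _ =>
    Submodule.smul_mem_smul (hl (Ideal.subset_span (List.getElem_mem i.2))) trivial

theorem exists_comb (l : List A) {y : M} (hy : y ∈ Ideal.ofList l • (⊤ : Submodule A M)) :
    ∃ m : Fin l.length → M, comb l m = y := by
  refine Submodule.smul_induction_on (p := fun y => ∃ m : Fin l.length → M, comb l m = y) hy
    (fun a ha z _ => ?_) (fun a b ha hb => ?_)
  · rw [Ideal.ofList, show {x | x ∈ l} = Set.range fun i : Fin l.length => l[i] from by
      ext z; simp [List.mem_iff_getElem, Fin.exists_iff]] at ha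
    obtain ⟨c, rfl⟩ := (Submodule.mem_span_range_iff_exists_fun A).1 ha
    exact ⟨fun i => c i • z, by simp [comb, Finset.sum_smul, smul_smul, mul_comm]⟩
  · obtain ⟨m, rfl⟩ := ha
    obtain ⟨m', rfl⟩ := hb
    exact ⟨m + m', by simp [comb, Finset.sum_add_distrib]⟩

/-- The monomials are independent modulo higher powers. -/
def Indep (f : List A) (J : Ideal A) (n : ℕ) (M : Type v) [AddCommGroup M] [Module A M] : Prop :=
  ∀ m : Fin f.length → M, comb f m ∈ J ^ (n + 1) • (⊤ : Submodule A M) →
    ∀ i, m i ∈ J • (⊤ : Submodule A M)

theorem indep_zero {d : ℕ} (f : Fin d → A) : Indep (monList f 0) (Ideal.span (Set.range f)) 0 M := by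
  intro m hm i
  rw [zero_add, pow_one] at hm
  have key : ∀ (l : List A) (_ : l = [1]) (m : Fin l.length → M) (i : Fin l.length), comb l m = m i := by
    rintro _ rfl m i
    obtain rfl : i = 0 := Fin.fin_one_eq_zero i
    simp [comb]
  rwa [key _ (by simp [monList]) m i] at hm

theorem indep_monList : ∀ {d : ℕ} (f : Fin d → A), IsWeaklyRegular M (List.ofFn f) → ∀ n : ℕ,
    Indep (monList f n) (Ideal.span (Set.range f)) n M := by
  intro d
  induction d with
  | zero =>
    intro f _ n
    cases n with
    | zero => exact indep_zero f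
    | succ n =>
      intro m hm i
      exact absurd i.2 (by simp [monList])
  | succ d ih =>
    intro f hf n
    have hsplit : IsWeaklyRegular M (List.ofFn fun i : Fin d => f i.castSucc) ∧
        ∀ y : M, f (Fin.last d) • y ∈ Ideal.span (Set.range fun i : Fin d => f i.castSucc) • (⊤ : Submodule A M) →
          y ∈ Ideal.span (Set.range fun i : Fin d => f i.castSucc) • (⊤ : Submodule A M) := by
      rw [List.ofFn_succ', List.concat_eq_append, isWeaklyRegular_append_iff] at hf
      refine ⟨hf.1, fun y hy => ?_⟩
      have hreg := ((isWeaklyRegular_cons_iff _ _ _).1 hf.2).1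
      have hG : Ideal.ofList (List.ofFn fun i : Fin d => f i.castSucc) =
          Ideal.span (Set.range fun i : Fin d => f i.castSucc) := by
        rw [Ideal.ofList]
        congr 1
        ext z
        simp [List.mem_ofFn]
      rw [← hG] at hy ⊢
      rw [← Submodule.Quotient.mk_eq_zero] at hy ⊢
      exact hreg.right_eq_zero_of_smul (by rw [← Submodule.Quotient.mk_smul]; exact hy)
    obtain ⟨hg, hx⟩ := hsplit
    set x := f (Fin.last d) with hxdef
    set G := Ideal.span (Set.range fun i : Fin d => f i.castSucc) with hGdef
    have hGJ : G ≤ Ideal.span (Set.range f) := by rw [span_range_succ f]; exact le_sup_left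
    have hxJ : x ∈ Ideal.span (Set.range f) := Ideal.subset_span ⟨_, rfl⟩
    have hreg : ∀ n y, x • y ∈ G ^ n • (⊤ : Submodule A M) → y ∈ G ^ n • (⊤ : Submodule A M) := by
      intro n
      induction n with
      | zero => intro y _; simp [Ideal.one_eq_top]
      | succ n ihn =>
        intro y hy
        have h0 := ihn y (Submodule.smul_mono_left (Ideal.pow_le_pow_right n.le_succ) hy)
        rw [← span_monList] at h0
        obtain ⟨k, rfl⟩ := exists_comb _ h0
        have h1 : comb (monList (fun i : Fin d => f i.castSucc) n) (fun i => x • k i) =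
            x • comb (monList (fun i : Fin d => f i.castSucc) n) k := by
          simp [comb, Finset.smul_sum, smul_comm x]
        have h2 := ih _ hg n (fun i => x • k i) (by rw [h1]; exact hy)
        refine Submodule.sum_mem _ fun i _ => ?_
        rw [pow_succ, ← smul_eq_mul, Submodule.smul_assoc]
        exact Submodule.smul_mem_smul
          (by rw [← span_monList]; exact Ideal.subset_span (List.getElem_mem i.2)) (hx _ (h2 i))
    induction n with
    | zero => exact indep_zero f
    | succ n ihn =>
      have hl : monList f (n + 1) =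
          monList (fun i : Fin d => f i.castSucc) (n + 1) ++ (monList f n).map (x * ·) := by rw [monList]
      suffices h : ∀ (l₁ l₂ : List A), l₁ = monList (fun i : Fin d => f i.castSucc) (n + 1) → l₂ = monList f n →
          ∀ (l : List A), l = l₁ ++ l₂.map (x * ·) → Indep l (Ideal.span (Set.range f)) (n + 1) M from
        h _ _ rfl rfl _ hl
      intro l₁ l₂ hl₁ hl₂ l hleq m hm
      subst hleq
      have hlen : (l₁ ++ l₂.map (x * ·)).length = l₁.length + l₂.length := by simp
      let e : Fin l₁.length ⊕ Fin l₂.length ≃ Fin (l₁ ++ l₂.map (x * ·)).length :=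
        finSumFinEquiv.trans (finCongr hlen.symm)
      let m₁ := fun i => m (e (Sum.inl i))
      let m₂ := fun i => m (e (Sum.inr i))
      have hc : comb (l₁ ++ l₂.map (x * ·)) m = comb l₁ m₁ + x • comb l₂ m₂ := by
        simp only [comb]
        rw [← e.sum_comp, Fintype.sum_sum_type, Finset.smul_sum]
        congr 1
        · refine Finset.sum_congr rfl fun i _ => ?_
          simp [e, m₁, List.getElem_append_left]
        · refine Finset.sum_congr rfl fun i _ => ?_
          simp [e, m₂, List.getElem_append_right, smul_smul]
      subst hl₁ hl₂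
      rw [hc, span_range_succ f, ← hGdef, ← hxdef, sup_span_singleton_pow_succ G x (n + 1), Submodule.sup_smul,
        ← span_range_succ f, ← smul_eq_mul, Submodule.smul_assoc, Submodule.ideal_span_singleton_smul] at hm
      obtain ⟨u, hu, v, hv, huv⟩ := Submodule.mem_sup.1 hm
      obtain ⟨w, hw, rfl⟩ := (Submodule.mem_smul_pointwise_iff_exists _ _ _).1 hv
      have hG1 : comb (monList (fun i : Fin d => f i.castSucc) (n + 1)) m₁ ∈ G ^ (n + 1) • (⊤ : Submodule A M) :=
        comb_mem _ _ (span_monList _ _).le _
      have hu' : u ∈ G ^ (n + 1) • (⊤ : Submodule A M) :=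
        Submodule.smul_mono_left (Ideal.pow_le_pow_right (Nat.le_succ _)) hu
      have h3 : comb (monList f n) m₂ - w ∈ G ^ (n + 1) • (⊤ : Submodule A M) := by
        refine hreg _ _ ?_
        have he : x • (comb (monList f n) m₂ - w) = u - comb (monList (fun i : Fin d => f i.castSucc) (n + 1)) m₁ := by
          rw [smul_sub, sub_eq_sub_iff_add_eq_add, add_comm (x • _), huv]
        rw [he]
        exact sub_mem hu' hG1
      have h4 : ∀ i, m₂ i ∈ Ideal.span (Set.range f) • (⊤ : Submodule A M) := by
        refine ihn m₂ ?_
        rw [show comb (monList f n) m₂ = (comb (monList f n) m₂ - w) + w by abel]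
        exact add_mem (Submodule.smul_mono_left (Ideal.pow_right_mono hGJ _) h3) hw
      rw [← span_monList] at h3
      obtain ⟨k, hk⟩ := exists_comb _ h3
      have h5 : comb (monList (fun i : Fin d => f i.castSucc) (n + 1)) (fun i => m₁ i + x • k i) = u := by
        have : comb (monList (fun i : Fin d => f i.castSucc) (n + 1)) (fun i => m₁ i + x • k i) =
            comb (monList (fun i : Fin d => f i.castSucc) (n + 1)) m₁ +
              x • comb (monList (fun i : Fin d => f i.castSucc) (n + 1)) k := by
          simp [comb, smul_add, Finset.sum_add_distrib, Finset.smul_sum, smul_comm x]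
        rw [this, hk, smul_sub, ← add_sub_assoc, ← huv, add_sub_cancel_right]
      have h6 := ih _ hg (n + 1) (fun i => m₁ i + x • k i) (by rw [h5]; exact hu)
      intro i
      obtain ⟨j, rfl⟩ := e.surjective i
      rcases j with j | j
      · have := Submodule.sub_mem _ (Submodule.smul_mono_left hGJ (h6 j))
          (Submodule.smul_mem_smul hxJ (Submodule.mem_top (x := k j)))
        simpa [m₁] using this
      · exact h4 j

end Groth.Agent.AlgzGr
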