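import Groth.Agent.AlgzGr.Extend

/-!
Extension when a regular sequence generates the ideal on the support.
-/

set_option autoImplicit false
set_option maxHeartbeats 1000000
set_option linter.style.haveILetI false
set_option backward.isDefEq.respectTransparency false
set_option backward.isDefEq.respectTransparency.types false
universe u

open CategoryTheory CategoryTheory.Limits AlgebraicGeometry TopologicalSpace Opposite

noncomputable section

namespace Groth.Agent.AlgzGr

variable {A : Type u} [CommRing A] {X : Scheme.{u}} [X.Over (Spec (CommRingCat.of A))] {I : Ideal A}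

theorem mem_zeroLocus_of_ne_top {y : X} (h : Algz.stalkIdeal I y ≠ ⊤) :
    (X ↘ Spec (CommRingCat.of A)).base y ∈ PrimeSpectrum.zeroLocus (R := A) I := by
  rw [PrimeSpectrum.mem_zeroLocus]
  intro a ha
  by_contra hn
  exact h (Ideal.eq_top_of_isUnit_mem _ (Ideal.mem_map_of_mem _ ha) (isUnit_toStalk a y hn))

theorem isWeaklyRegular_stL {G : ℕᵒᵖ ⥤ X.Modules} (hG : Formal.IsCohFormal I G) (y : X)
    (l : List (X.presheaf.stalk y))
    (h : RingTheory.Sequence.IsWeaklyRegular ↥(Algz.hatStalk I G y)
      (l.map (algebraMap (X.presheaf.stalk y) (Algz.hatRing I y)))) :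
    RingTheory.Sequence.IsWeaklyRegular (stL G y) l := by
  obtain ⟨e, he⟩ := exists_hat_equiv hG y
  refine (AddEquiv.isWeaklyRegular_congr (e := e) ?_).2 h
  rw [List.forall₂_map_right_iff, List.forall₂_same]
  exact fun r _ x => he r x

end Groth.Agent.AlgzGr
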