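import Groth.Agent.AlgzGr.Monom
import Groth.Agent.AdicLim.Basic
import Groth.Agent.W7Exist.Formal
import Groth.Agent.WeakAssLib.Stalk
import Groth.Agent.RegDual.Scheme
import Groth.Prelude.Def_Algz2

/-!
Stalks of a coherent formal system and their limit.
-/

set_option autoImplicit false
set_option maxHeartbeats 1000000
set_option linter.style.haveILetI false
set_option backward.isDefEq.respectTransparency false
set_option backward.isDefEq.respectTransparency.types false
universe u

open CategoryTheory CategoryTheory.Limits AlgebraicGeometry TopologicalSpace Opposite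
open Groth.Agent.WeakAssLib (mgerm mgerm_res mgerm_smul stalkHom_germ)
open Groth.Agent.W7Exist (tn trG)

noncomputable section

namespace Groth.Agent.AlgzGr

variable {A : Type u} [CommRing A] {X : Scheme.{u}} [X.Over (Spec (CommRingCat.of A))]

lemma sm_germ {M N : X.Modules} (φ : M ⟶ N) {V : X.Opens} {y : X} (hy : y ∈ V) (s : Γ(M, V)) :
    Algz.stalkMapₗ φ y (mgerm M hy s) = mgerm N hy (φ.app V s) :=
  stalkHom_germ φ hy s

lemma sm_id {M : X.Modules} (y : X) (v : M.presheaf.stalk y) : Algz.stalkMapₗ (𝟙 M) y v = v := by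
  obtain ⟨V, hy, s, rfl⟩ := M.presheaf.exists_germ_eq (x := y) v
  exact sm_germ (𝟙 M) hy s

lemma sm_comp {M N P : X.Modules} (φ : M ⟶ N) (ψ : N ⟶ P) (y : X) (v : M.presheaf.stalk y) :
    Algz.stalkMapₗ (φ ≫ ψ) y v = Algz.stalkMapₗ ψ y (Algz.stalkMapₗ φ y v) := by
  obtain ⟨V, hy, s, rfl⟩ := M.presheaf.exists_germ_eq (x := y) v
  exact (sm_germ (φ ≫ ψ) hy s).trans
    ((congrArg (Algz.stalkMapₗ ψ y) (sm_germ φ hy s)).trans (sm_germ ψ hy (φ.app V s))).symm

lemma sm_add {M N : X.Modules} (φ ψ : M ⟶ N) (y : X) (v : M.presheaf.stalk y) :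
    Algz.stalkMapₗ (φ + ψ) y v = Algz.stalkMapₗ φ y v + Algz.stalkMapₗ ψ y v := by
  obtain ⟨V, hy, s, rfl⟩ := M.presheaf.exists_germ_eq (x := y) v
  change Algz.stalkMapₗ (φ + ψ) y (mgerm M hy s) =
    Algz.stalkMapₗ φ y (mgerm M hy s) + Algz.stalkMapₗ ψ y (mgerm M hy s)
  rw [sm_germ, sm_germ, sm_germ, ← map_add]
  rfl

lemma sm_zero {M N : X.Modules} (y : X) (v : M.presheaf.stalk y) :
    Algz.stalkMapₗ (0 : M ⟶ N) y v = 0 := by
  obtain ⟨V, hy, s, rfl⟩ := M.presheaf.exists_germ_eq (x := y) v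
  exact (sm_germ (0 : M ⟶ N) hy s).trans (map_zero _)

lemma sm_sum {M N : X.Modules} {ι : Type*} (s : Finset ι) (φ : ι → (M ⟶ N)) (y : X) (v : M.presheaf.stalk y) :
    Algz.stalkMapₗ (∑ i ∈ s, φ i) y v = ∑ i ∈ s, Algz.stalkMapₗ (φ i) y v := by
  classical
  induction s using Finset.induction with
  | empty => rw [Finset.sum_empty, Finset.sum_empty, sm_zero]
  | insert a t ha ih => rw [Finset.sum_insert ha, Finset.sum_insert ha, sm_add, ih]

lemma sm_injective {M N : X.Modules} (φ : M ⟶ N) [Mono φ] (y : X) :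
    Function.Injective (Algz.stalkMapₗ φ y) :=
  WeakAssLib.stalkHom_injective φ y

lemma toStalk_germ (a : A) {V : X.Opens} {y : X} (hy : y ∈ V) :
    X.presheaf.germ V y hy (W7Cech.secRing A V a) = Algz.toStalk A X y a :=
  X.presheaf.germ_res_apply (homOfLE (le_top : V ≤ ⊤)) y hy _

lemma sm_smulMod (M : X.Modules) (a : A) (y : X) (v : M.presheaf.stalk y) :
    Algz.stalkMapₗ (Formal.smulMod A M a) y v = Algz.toStalk A X y a • v := by
  obtain ⟨V, hy, s, rfl⟩ := M.presheaf.exists_germ_eq (x := y) v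
  change Algz.stalkMapₗ (Formal.smulMod A M a) y (mgerm M hy s) = _ • mgerm M hy s
  rw [sm_germ, ← toStalk_germ a hy]
  exact mgerm_smul M hy (W7Cech.secRing A V a) s

/-- The image of `a` is a unit in the local ring of a point whose image avoids `a`. -/
theorem isUnit_toStalk (a : A) (y : X) (h : a ∉ ((X ↘ Spec (CommRingCat.of A)) y).asIdeal) :
    IsUnit (Algz.toStalk A X y a) := by
  let f := X ↘ Spec (CommRingCat.of A)
  have h1 : f y ∈ (Spec (CommRingCat.of A)).basicOpen ((Scheme.ΓSpecIso (CommRingCat.of A)).inv a) := by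
    rw [basicOpen_eq_of_affine]
    exact h
  have h2 : y ∈ f ⁻¹ᵁ (Spec (CommRingCat.of A)).basicOpen ((Scheme.ΓSpecIso (CommRingCat.of A)).inv a) := h1
  rw [Scheme.preimage_basicOpen_top] at h2
  exact (X.mem_basicOpen _ y (by trivial)).mp h2

variable {I : Ideal A} {G : ℕᵒᵖ ⥤ X.Modules} (hG : Formal.IsCohFormal I G)

include hG in
lemma stalk_killed (n : ℕ) (y : X) :
    Algz.stalkIdeal I y ^ (n + 1) • (⊤ : Submodule (X.presheaf.stalk y) ((G.obj (op n)).presheaf.stalk y)) = ⊥ := by
  rw [eq_bot_iff, Algz.stalkIdeal, ← Ideal.map_pow]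
  refine Submodule.smul_le.2 fun r hr v _ => ?_
  rw [Submodule.mem_bot]
  refine Submodule.span_induction (p := fun r _ => r • v = 0) ?_ (zero_smul _ _) ?_ ?_ hr
  · rintro _ ⟨b, hb, rfl⟩
    rw [← sm_smulMod, hG.2.1 n b hb, sm_zero]
  · intro a b _ _ ha hb
    rw [add_smul, ha, hb, add_zero]
  · intro c a _ ha
    rw [smul_eq_mul, mul_smul, ha, smul_zero]

include hG in
lemma stalk_tn_surjective (n : ℕ) (y : X) : Function.Surjective (Algz.stalkMapₗ (tn G n) y) := by
  intro v
  obtain ⟨U, hyU, s, rfl⟩ := (G.obj (op n)).presheaf.exists_germ_eq (x := y) v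
  obtain ⟨V, hV, hyV, hVU⟩ := exists_isAffineOpen_mem_and_subset (x := y) (U := U) hyU
  obtain ⟨t, ht⟩ := W7Exist.app_trG_surjective hG (Nat.le_succ n) hV (QC.res _ hVU s)
  refine ⟨mgerm _ hyV t, (sm_germ _ hyV t).trans ?_⟩
  exact (congrArg _ ht).trans (mgerm_res _ hVU hyV s)

include hG in
lemma stalk_ker (n : ℕ) (y : X) :
    LinearMap.ker (Algz.stalkMapₗ (tn G n) y) =
      Algz.stalkIdeal I y ^ (n + 1) • (⊤ : Submodule (X.presheaf.stalk y) ((G.obj (op (n + 1))).presheaf.stalk y)) := by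
  refine le_antisymm (fun v hv => ?_) ?_
  · obtain ⟨U, hyU, s, rfl⟩ := (G.obj (op (n + 1))).presheaf.exists_germ_eq (x := y) v
    rw [LinearMap.mem_ker] at hv
    have hv' : mgerm (G.obj (op n)) hyU ((tn G n).app U s) = mgerm (G.obj (op n)) hyU 0 :=
      ((sm_germ (tn G n) hyU s).symm.trans hv).trans (map_zero _).symm
    obtain ⟨W, hyW, iU, iU', e⟩ := (G.obj (op n)).presheaf.germ_eq y hyU hyU _ _ hv'
    obtain ⟨V, hV, hyV, hVW⟩ := exists_isAffineOpen_mem_and_subset (x := y) (U := W) hyW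
    have hVU : V ≤ U := le_trans hVW iU.le
    have h0 : (tn G n).app V (QC.res _ hVU s) = 0 := by
      rw [← QC.app_res, ← QC.res_res (G.obj (op n)) (show V ≤ W from hVW) iU.le]
      have e' : QC.res (G.obj (op n)) iU.le ((tn G n).app U s) = 0 := e.trans (map_zero _)
      rw [e', map_zero]
    rw [W7Exist.tn_app_eq_zero_iff hG n hV] at h0
    rw [show (G.obj (op (n + 1))).presheaf.germ U y hyU s = mgerm _ hyV (QC.res _ hVU s) from
      (mgerm_res _ hVU hyV s).symm]
    refine Submodule.smul_induction_on (p := fun z => mgerm (G.obj (op (n + 1))) hyV z ∈ _) h0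
      (fun a ha z _ => ?_) (fun a b ha hb => by rw [map_add]; exact add_mem ha hb)
    rw [mgerm_smul]
    refine Submodule.smul_mem_smul ?_ trivial
    rw [← Ideal.map_pow] at ha
    have h := Ideal.mem_map_of_mem (X.presheaf.germ V y hyV).hom ha
    rw [Ideal.map_map] at h
    rw [Algz.stalkIdeal, ← Ideal.map_pow]
    rwa [show (X.presheaf.germ V y hyV).hom.comp (W7Cech.secRing A V) = Algz.toStalk A X y from
      RingHom.ext fun c => toStalk_germ c hyV] at h
  · refine Submodule.smul_le.2 fun r hr v _ => ?_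
    rw [LinearMap.mem_ker, map_smul]
    have h := Submodule.smul_mem_smul (N := (⊤ : Submodule (X.presheaf.stalk y) _)) hr
      (Submodule.mem_top (x := Algz.stalkMapₗ (tn G n) y v))
    rwa [stalk_killed hG n y, Submodule.mem_bot] at h

variable (G)

/-- Compatible families in the stalks. -/
def stL (y : X) : Submodule (X.presheaf.stalk y) (∀ n, (G.obj (op n)).presheaf.stalk y) where
  carrier := {v | ∀ n, Algz.stalkMapₗ (tn G n) y (v (n + 1)) = v n}
  zero_mem' := fun _ => map_zero _
  add_mem' {a b} ha hb := fun n => by rw [Pi.add_apply, map_add, ha n, hb n, Pi.add_apply]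
  smul_mem' r a ha := fun n => by rw [Pi.smul_apply, map_smul, ha n, Pi.smul_apply]

/-- The projections. -/
def stπ (y : X) (n : ℕ) : stL G y →ₗ[X.presheaf.stalk y] (G.obj (op n)).presheaf.stalk y :=
  (LinearMap.proj n).comp (stL G y).subtype

variable {G}

theorem isLimit_stL (y : X) :
    AdicLim.IsLimit (A := X.presheaf.stalk y) (fun n => Algz.stalkMapₗ (tn G n) y) (stπ G y) where
  comm n := LinearMap.ext fun v => v.2 n
  inj _ h := Subtype.ext (funext h)
  lift v hv := ⟨(⟨v, hv⟩ : stL G y), fun _ => rfl⟩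

include hG in
theorem stπ_surjective (y : X) (n : ℕ) : Function.Surjective (stπ G y n) :=
  AdicLim.IsLimit.surjective (f := fun n => Algz.stalkMapₗ (tn G n) y) (π := stπ G y)
    (isLimit_stL y)
    (fun n => stalk_tn_surjective hG n y) n

include hG in
theorem stπ_ker [IsLocallyNoetherian X] (y : X) (n : ℕ) :
    LinearMap.ker (stπ G y n) = Algz.stalkIdeal I y ^ (n + 1) • (⊤ : Submodule (X.presheaf.stalk y) (stL G y)) :=
  AdicLim.IsLimit.ker_eq_of_fg (f := fun n => Algz.stalkMapₗ (tn G n) y) (π := stπ G y)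
    (isLimit_stL y)
    (Algz.stalkIdeal I y) (fun n => stalk_tn_surjective hG n y) (fun n => stalk_ker hG n y)
    (IsNoetherian.noetherian _) n

include hG in
theorem of_bijective (n : ℕ) (y : X) :
    Function.Bijective (AdicCompletion.of (Algz.stalkIdeal I y) ((G.obj (op n)).presheaf.stalk y)) := by
  have hk : ∀ m, n + 1 ≤ m →
      Algz.stalkIdeal I y ^ m • (⊤ : Submodule (X.presheaf.stalk y) ((G.obj (op n)).presheaf.stalk y)) = ⊥ := fun m hm =>
    le_bot_iff.1 ((Submodule.smul_mono_left (Ideal.pow_le_pow_right hm)).trans (stalk_killed hG n y).le)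
  refine ⟨(injective_iff_map_eq_zero _).2 fun v hv => ?_, fun w => ?_⟩
  · have h := congrArg (fun z => AdicCompletion.eval _ _ (n + 1) z) hv
    simp only [map_zero, AdicCompletion.eval_of] at h
    rw [Submodule.mkQ_apply, Submodule.Quotient.mk_eq_zero, hk _ le_rfl] at h
    exact h
  · obtain ⟨v, hv⟩ := Submodule.Quotient.mk_surjective _ (w.val (n + 1))
    refine ⟨v, AdicCompletion.ext fun m => ?_⟩
    show Submodule.Quotient.mk v = w.val m
    rcases le_total m (n + 1) with h | h
    · rw [← w.2 h, ← hv]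
      rfl
    · obtain ⟨v', hv'⟩ := Submodule.Quotient.mk_surjective _ (w.val m)
      have h2 : w.val (n + 1) = Submodule.Quotient.mk v' := by rw [← w.2 h, ← hv']; rfl
      rw [← hv, Submodule.Quotient.eq, hk _ le_rfl, Submodule.mem_bot, sub_eq_zero] at h2
      rw [← hv', h2]

include hG in
/-- The completed stalk of the system is the limit of the stalks. -/
theorem exists_hat_equiv (y : X) :
    ∃ e : stL G y ≃+ Algz.hatStalk I G y, ∀ (r : X.presheaf.stalk y) (v : stL G y),
      e (r • v) = algebraMap (X.presheaf.stalk y) (Algz.hatRing I y) r • e v := by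
  let o : ∀ n, (G.obj (op n)).presheaf.stalk y →ₗ[X.presheaf.stalk y]
      AdicCompletion (Algz.stalkIdeal I y) ((G.obj (op n)).presheaf.stalk y) := fun n => AdicCompletion.of _ _
  have hmem : ∀ v : stL G y, (fun n => o n (v.1 n)) ∈ Algz.hatStalk I G y := fun v n => by
    show AdicCompletion.map _ _ (o (n + 1) (v.1 (n + 1))) = o n (v.1 n)
    simp only [o, AdicCompletion.map_of]
    exact congrArg _ (v.2 n)
  let e0 : stL G y →+ Algz.hatStalk I G y :=
    AddMonoidHom.mk' (fun v => ⟨fun n => o n (v.1 n), hmem v⟩) fun a b => Subtype.ext (funext fun n => map_add (o n) _ _)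
  have hb : Function.Bijective e0 := by
    refine ⟨fun a b h => Subtype.ext (funext fun n =>
      (of_bijective hG n y).1 (congrFun (congrArg Subtype.val h) n)), fun w => ?_⟩
    choose v hv using fun n => (of_bijective hG n y).2 (w.1 n)
    have hv' : v ∈ stL G y := fun n => (of_bijective hG n y).1 (by
      rw [hv n, ← w.2 n, ← hv (n + 1)]
      exact (AdicCompletion.map_of _ _ _).symm)
    exact ⟨⟨v, hv'⟩, Subtype.ext (funext hv)⟩
  refine ⟨AddEquiv.ofBijective e0 hb, fun r v => Subtype.ext (funext fun n => ?_)⟩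
  show o n (r • v.1 n) = algebraMap (X.presheaf.stalk y) (Algz.hatRing I y) r • o n (v.1 n)
  rw [map_smul, algebraMap_smul]

end Groth.Agent.AlgzGr
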